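import Groth.Agent.Lib.SBTwist.Push
import Groth.Agent.Lib.CohDelta.KBC.Isotypic
import Groth.Agent.Lib.CohDelta.KBC.Simple
import Groth.Agent.Lib.CohDelta.KS.Cancel
import Groth.Agent.Lib.ProjSpace.Basic
import Groth.Agent.Lib.PnOmega.NullCorr

/-!
# Indecomposable bundles of type `O_e(j)` and absolutely split bundles
-/

set_option autoImplicit false
set_option linter.style.haveILetI false
universe u

open CategoryTheory CategoryTheory.Limits AlgebraicGeometry ZeroObject

noncomputable section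

namespace Groth.Agent.Lib.SBTwist

open Groth.Agent.Lib CohDelta W4c1astiltbs12

variable {k : Type u} [Field k] {X : Scheme.{u}}

/-- A retract of a power of a good object is a power. -/
theorem retract_pow (p : X ⟶ Spec (CommRingCat.of k)) [IsProper p] {L S : X.Modules}
    (hL : Coh.IsCoh L) (hLi : KS.Ind L) {r : ℕ} (i' : S ⟶ pow L r) (t' : pow L r ⟶ S)
    (hi't' : i' ≫ t' = 𝟙 S) : ∃ a, Nonempty (S ≅ pow L a) := by
  classical
  haveI : IsLocallyNoetherian X := LocallyOfFiniteType.isLocallyNoetherian p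
  haveI : IsSplitMono i' := ⟨⟨⟨t', hi't'⟩⟩⟩
  let C := cokernel i'
  let ses : ShortComplex X.Modules := ShortComplex.mk i' (cokernel.π i') (cokernel.condition i')
  have hs : ses.Splitting := ShortComplex.Splitting.ofExactOfRetraction ses
    (ShortComplex.exact_cokernel i') t' hi't' (inferInstanceAs (Epi (cokernel.π i')))
  let dec : S ⊞ C ≅ pow L r := hs.isoBinaryBiproduct.symm
  have hcohr : Coh.IsCoh (pow L r) := KBC.isCoh_pow hL r
  obtain ⟨a, ha, ⟨ea⟩⟩ := KBC.exists_decomp p S (KBC.isCoh_retract i' t' hi't' hcohr)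
  obtain ⟨c, hc, ⟨ec⟩⟩ := KBC.exists_decomp p C
    (KBC.isCoh_retract (biprod.inr ≫ dec.hom) (dec.inv ≫ biprod.snd) (by simp) hcohr)
  have hp := KS.decomposition_unique (l := a ++ c) (l' := List.ofFn fun _ : Fin r => L)
    (fun T hT => (List.mem_append.mp hT).elim (ha T) (hc T))
    (fun T hT => by obtain ⟨i, rfl⟩ := List.mem_ofFn.1 hT; exact KBC.good_of_ind p hL hLi)
    ((KS.bsum_append a c).some.symm ≪≫ (biprod.mapIso ea ec).symm ≪≫ dec ≪≫ (KS.bsum_ofFn _).some.symm)
  have hall : a.map KS.cls = List.replicate a.length (KS.cls L) := by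
    refine List.eq_replicate_iff.mpr ⟨List.length_map _, fun z hz => ?_⟩
    have hz' := hp.subset (by rw [List.map_append]; exact List.mem_append_left _ hz)
    rw [List.ofFn_const, List.map_replicate] at hz'
    exact List.eq_of_mem_replicate hz'
  obtain ⟨eA⟩ := KS.iso_of_cls_perm (l := a) (m := List.ofFn fun _ : Fin a.length => L)
    (by rw [hall, List.ofFn_const, List.map_replicate])
  exact ⟨a.length, ⟨ea ≪≫ eA ≪≫ (KS.bsum_ofFn _).some⟩⟩

variable (f : X ⟶ Spec (CommRingCat.of k)) [IsProper f] {K : Type u} [Field K] [Algebra k K]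
  [IsAlgClosure k K] {n : ℕ} (e : BrSev.Splitting f K n)

theorem isInvertible_twist (j : ℤ) : PicF.IsInvertible (e.twist j) :=
  PicLoc.isInvertible_pullback _ (PicProjOver.isInvertible_twistProjSpace n K j)

include e in
theorem isIntegral_bc : IsIntegral (BrSev.bc f K) := by
  haveI : Nonempty (BrSev.bc f K) := ⟨e.iso.inv (Classical.arbitrary _)⟩
  exact isIntegral_of_isOpenImmersion e.iso.hom

theorem ind_twist (j : ℤ) : KS.Ind (e.twist j) := by
  haveI : IsAlgClosed K := IsAlgClosure.isAlgClosed k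
  haveI := isIntegral_bc f e
  letI : (BrSev.bc f K).Over (Spec (CommRingCat.of K)) := ⟨BrSev.bcTo f K⟩
  haveI : IsProper (BrSev.bc f K ↘ Spec (CommRingCat.of K)) :=
    MorphismProperty.pullback_snd f _ ‹IsProper f›
  have hL := isInvertible_twist f e j
  refine ⟨fun hz => ?_, fun A B ⟨φ⟩ => ?_⟩
  · refine PnOmega.not_isZero_tw (n := n) (k := K) j ?_
    haveI := (Scheme.Modules.pullbackPushforwardAdjunction e.iso.inv).left_adjoint_additive
    refine IsZero.of_iso ((Scheme.Modules.pullback e.iso.inv).map_isZero hz) ?_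
    exact ((Scheme.Modules.pullbackId _).app _).symm ≪≫
      (Scheme.Modules.pullbackCongr e.iso.inv_hom_id.symm).app _ ≪≫
      ((Scheme.Modules.pullbackComp e.iso.inv e.iso.hom).app _).symm
  · obtain ⟨c, hc⟩ := KBC.end_scalar K hL (φ.hom ≫ biprod.fst ≫ biprod.inl ≫ φ.inv)
    have hzero : ∀ {M N : (BrSev.bc f K).Modules} (x : M ⟶ N), (0 : K) • x = 0 := fun x => zero_smul K x
    by_cases h0 : c = 0
    · left
      rw [h0, zero_smul] at hc
      rw [IsZero.iff_id_eq_zero]
      have h1 := congrArg (fun q => biprod.inl ≫ φ.inv ≫ q ≫ φ.hom ≫ biprod.fst) hc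
      simpa using h1
    · right
      rw [IsZero.iff_id_eq_zero]
      have h1 := congrArg (fun q => biprod.inr ≫ φ.inv ≫ q ≫ φ.hom ≫ biprod.snd) hc
      simp only [Category.assoc, Linear.comp_smul, Linear.smul_comp, Category.id_comp,
        Iso.inv_hom_id_assoc, biprod.inr_fst_assoc, zero_comp, biprod.inr_snd] at h1
      exact (smul_eq_zero.1 h1.symm).resolve_left h0

/-- An indecomposable finite locally free module of type `O_e(j)`. -/
theorem exists_type (j : ℤ) :
    ∃ (W : X.Modules) (r : ℕ), FlatMod.IsFinLocFree W ∧ KS.Ind W ∧ 0 < r ∧ BrSev.IsTwPow e j r W := by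
  haveI : IsAlgClosed K := IsAlgClosure.isAlgClosed k
  haveI : Algebra.IsAlgebraic k K := IsAlgClosure.isAlgebraic
  haveI : IsLocallyNoetherian X := LocallyOfFiniteType.isLocallyNoetherian f
  haveI : IsProper (BrSev.bcTo f K) := MorphismProperty.pullback_snd f _ ‹IsProper f›
  obtain ⟨E, d, hE, hd, ⟨eE⟩⟩ := exists_push f K e j
  have hEc := Perfect.Coherent.isCoh_of_isFinLocFree hE
  have hi := ind_twist f e j
  have hLc := Ample.GG.isCoh_of_isInvertible (isInvertible_twist f e j)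
  haveI := KBC.additive_pullback (BrSev.proj f K)
  have hE0 : ¬ IsZero E := fun hz => hi.1 <| by
    have h1 := IsZero.of_iso ((Scheme.Modules.pullback (BrSev.proj f K)).map_isZero hz) eE.symm
    rw [IsZero.iff_id_eq_zero] at h1 ⊢
    have h2 := congrArg (fun q => Sigma.ι (fun _ : Fin d => e.twist j) ⟨0, hd⟩ ≫ q ≫ Sigma.desc fun _ => 𝟙 _) h1
    simpa using h2
  obtain ⟨G, m, hGc, hGi, ⟨i, t, hit⟩, -, -⟩ := KBC.exists_pow_of_isotypic f K hEc hE0 hLc hi eE
  obtain ⟨a, ⟨ea⟩⟩ := retract_pow (BrSev.bcTo f K) hLc hi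
    ((Scheme.Modules.pullback (BrSev.proj f K)).map i ≫ eE.hom)
    (eE.inv ≫ (Scheme.Modules.pullback (BrSev.proj f K)).map t) (by
      rw [Category.assoc, Iso.hom_inv_id_assoc, ← Functor.map_comp, hit, CategoryTheory.Functor.map_id])
  refine ⟨G, a, KBC.isFinLocFree_retract i t hit hE, hGi, Nat.pos_of_ne_zero fun h => hGi.1 ?_, ⟨ea⟩⟩
  subst h
  exact KBC.isZero_of_bc f K hGc
    (IsZero.of_iso ((IsZero.iff_id_eq_zero _).mpr (Sigma.hom_ext _ _ fun i => i.elim0)) ea)

/-- Every invertible module on `X_K` is some `O_e(j)`. -/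
theorem exists_twist_iso {L : (BrSev.bc f K).Modules} (hL : PicF.IsInvertible L) :
    ∃ j : ℤ, Nonempty (L ≅ e.twist j) := by
  obtain ⟨d, ⟨i⟩⟩ := PicProj.Main.exists_twist_iso (R := K) ((Scheme.Modules.pullback e.iso.inv).obj L)
    (PicLoc.isInvertible_pullback _ hL)
  exact ⟨d, ⟨((Scheme.Modules.pullbackId _).app L).symm ≪≫
    (Scheme.Modules.pullbackCongr e.iso.hom_inv_id.symm).app L ≪≫
    ((Scheme.Modules.pullbackComp e.iso.hom e.iso.inv).app L).symm ≪≫
    (Scheme.Modules.pullback e.iso.hom).mapIso i⟩⟩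

/-- The summands of an absolutely split bundle are of twisting type. -/
theorem type_of_summand {E : X.Modules} {l : List X.Modules} (hl : ∀ S ∈ l, KS.Good S)
    (hE : FlatMod.IsFinLocFree E) (φ : E ≅ KS.bsum l)
    {s : ℕ} (Ls : Fin s → (BrSev.bc f K).Modules) (hLs : ∀ i, PicF.IsInvertible (Ls i))
    (ψ : BrSev.bcMod f K E ≅ ∐ Ls) :
    ∀ S ∈ l, ∃ (j : ℤ) (r : ℕ), 0 < r ∧ FlatMod.IsFinLocFree S ∧ BrSev.IsTwPow e j r S := by
  classical
  haveI : IsAlgClosed K := IsAlgClosure.isAlgClosed k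
  haveI : Algebra.IsAlgebraic k K := IsAlgClosure.isAlgebraic
  haveI : IsLocallyNoetherian X := LocallyOfFiniteType.isLocallyNoetherian f
  choose js hjs using fun i => exists_twist_iso f e (hLs i)
  choose W r hWf hWi hr hWt using fun i => exists_type f e (js i)
  let R := ∏ i, r i
  let m : Fin s → ℕ := fun i => R / r i
  have hRpos : 0 < R := Finset.prod_pos fun i _ => hr i
  have hm : ∀ i, r i * m i = R := fun i => Nat.mul_div_cancel' (Finset.dvd_prod_of_mem r (Finset.mem_univ i))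
  have hEc := Perfect.Coherent.isCoh_of_isFinLocFree hE
  let T : Fin s → X.Modules := fun i => pow (W i) (m i)
  have hTc : ∀ i, Coh.IsCoh (T i) := fun i => KBC.isCoh_pow (Perfect.Coherent.isCoh_of_isFinLocFree (hWf i)) _
  have hTsum : Coh.IsCoh (∐ T) := CohBasics.Closure.isCoh_of_iso (KS.bsum_ofFn T).some
    (KBC.isCoh_bsum fun S hS => by obtain ⟨i, rfl⟩ := List.mem_ofFn.1 hS; exact hTc i)
  haveI := (Scheme.Modules.pullbackPushforwardAdjunction (BrSev.proj f K)).leftAdjoint_preservesColimits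
  let b1 : ∀ i, BrSev.bcMod f K (T i) ≅ pow (Ls i) R := fun i =>
    KBC.bcPow f K (W i) (m i) ≪≫ Sigma.mapIso (fun _ => (hWt i).some) ≪≫
      sigmaSigmaIso (fun _ : Fin (m i) => Fin (r i)) (fun _ _ => e.twist (js i)) ≪≫
      (Sigma.whiskerEquiv ((finCongr (by rw [Nat.mul_comm, hm i] : m i * r i = R)).symm.trans
        ((finProdFinEquiv.symm).trans (Equiv.sigmaEquivProd (Fin (m i)) (Fin (r i))).symm))
        (fun _ => Iso.refl _)).symm ≪≫ Sigma.mapIso fun _ => (hjs i).some.symm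
  let swap : (∐ fun i => pow (Ls i) R) ≅ pow (∐ Ls) R :=
  { hom := Sigma.desc fun i => Sigma.desc fun a =>
      Sigma.ι Ls i ≫ Sigma.ι (fun _ : Fin R => ∐ Ls) a
    inv := Sigma.desc fun a => Sigma.desc fun i =>
      Sigma.ι (fun _ : Fin R => Ls i) a ≫ Sigma.ι (fun i => pow (Ls i) R) i
    hom_inv_id := Sigma.hom_ext _ _ fun a => Sigma.hom_ext _ _ fun b => by simp
    inv_hom_id := Sigma.hom_ext _ _ fun b => Sigma.hom_ext _ _ fun a => by simp }
  obtain ⟨χ⟩ := KBC.iso_of_bc f K (KBC.isCoh_pow hEc R) hTsum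
    (KBC.bcPow f K E R ≪≫ Sigma.mapIso (fun _ => ψ) ≪≫ swap.symm ≪≫ (Sigma.mapIso b1).symm ≪≫
      (PreservesCoproduct.iso (Scheme.Modules.pullback (BrSev.proj f K)) T).symm)
  obtain ⟨φR⟩ := KS.pow_iso φ R
  obtain ⟨φT⟩ := KS.bsum_flatten (List.ofFn fun i => List.replicate (m i) (W i))
  have hT : Nonempty (∐ T ≅ KS.bsum (List.ofFn fun i => List.replicate (m i) (W i)).flatten) := by
    refine ⟨(KS.bsum_ofFn T).some.symm ≪≫ ?_ ≪≫ φT⟩
    rw [List.map_ofFn]
    exact (KS.bsum_ofFn _).some ≪≫ Sigma.mapIso (fun i => (KS.bsum_ofFn fun _ : Fin (m i) => W i).some.symm ≪≫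
      (KS.bsum_ext (List.ofFn_const _ _)).some) ≪≫ (KS.bsum_ofFn _).some.symm
  have hp := KS.decomposition_unique (l := (List.replicate R l).flatten)
    (l' := (List.ofFn fun i => List.replicate (m i) (W i)).flatten)
    (fun S hS => by
      obtain ⟨l', hl', hS⟩ := List.mem_flatten.1 hS
      rw [List.eq_of_mem_replicate hl'] at hS
      exact hl S hS)
    (fun S hS => by
      obtain ⟨l', hl', hS⟩ := List.mem_flatten.1 hS
      obtain ⟨i, rfl⟩ := List.mem_ofFn.1 hl'
      rw [List.eq_of_mem_replicate hS]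
      exact KBC.good_of_ind f (Perfect.Coherent.isCoh_of_isFinLocFree (hWf i)) (hWi i))
    (φR.symm ≪≫ χ ≪≫ hT.some)
  intro S hS
  have hmem : KS.cls S ∈ ((List.ofFn fun i => List.replicate (m i) (W i)).flatten).map KS.cls :=
    hp.subset (List.mem_map.mpr ⟨S, List.mem_flatten.2 ⟨l, List.mem_replicate.2 ⟨hRpos.ne', rfl⟩, hS⟩, rfl⟩)
  obtain ⟨S', hS', hcls⟩ := List.mem_map.mp hmem
  obtain ⟨l', hl', hS'⟩ := List.mem_flatten.1 hS'
  obtain ⟨i, rfl⟩ := List.mem_ofFn.1 hl'
  obtain rfl := List.eq_of_mem_replicate hS'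
  obtain ⟨ι⟩ : Nonempty (W i ≅ S) := Quotient.exact hcls
  exact ⟨js i, r i, hr i, KBC.isFinLocFree_retract ι.inv ι.hom ι.inv_hom_id (hWf i),
    ⟨(Scheme.Modules.pullback _).mapIso ι.symm ≪≫ (hWt i).some⟩⟩

end Groth.Agent.Lib.SBTwist
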