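import Groth.Agent.Lib.SBTwist.Generic
import Groth.Agent.Lib.TensorMod.Pullback

/-!
# Twisting isotypical modules by invertible modules
-/

set_option autoImplicit false
set_option linter.style.haveILetI false
universe u

open CategoryTheory CategoryTheory.Limits AlgebraicGeometry ZeroObject

noncomputable section

namespace Groth.Agent.Lib.SBTwist.Generic

open Groth.Agent.Lib CohDelta W4c1astiltbs12 TensorMod.Basic CurveBundle

/-- Tensoring a sum of copies with a module. -/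
theorem pow_tensor {Y : Scheme.{u}} (N M : Y.Modules) (d : ℕ) :
    Nonempty (CohB1.tensorMod (pow N d) M ≅ pow (CohB1.tensorMod N M) d) :=
  have := TensorMod.LocFree.preservesFinCoproducts (tensorBy M) (Fin d)
  ⟨PreservesCoproduct.iso (tensorBy M) fun _ : Fin d => N⟩

/-- Twisting by an invertible module preserves indecomposability. -/
theorem ind_tensor {Y : Scheme.{u}} {W J : Y.Modules} (hJ : PicF.IsInvertible J) (hW : KS.Ind W) :
    KS.Ind (CohB1.tensorMod W J) := by
  haveI : (tensorBy J).IsEquivalence := CurveBundle.Twist.isEquivalence hJ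
  haveI : (tensorBy J).Additive := GP.additive_tensorBy _
  haveI := preservesBinaryBiproducts_of_preservesBiproducts (tensorBy J)
  refine ⟨fun hz => hW.1 ?_, fun A B ⟨φ⟩ => ?_⟩
  · rw [IsZero.iff_id_eq_zero]
    exact (tensorBy J).map_injective (IsZero.eq_of_src (hz : IsZero ((tensorBy J).obj W)) _ _)
  · let A' := (tensorBy J).objPreimage A
    let B' := (tensorBy J).objPreimage B
    let φ' : (tensorBy J).obj W ≅ (tensorBy J).obj (A' ⊞ B') :=
      φ ≪≫ biprod.mapIso ((tensorBy J).objObjPreimageIso A).symm ((tensorBy J).objObjPreimageIso B).symm ≪≫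
        ((tensorBy J).mapBiprod A' B').symm
    rcases hW.2 A' B' ⟨(tensorBy J).preimageIso φ'⟩ with h | h
    · exact Or.inl (IsZero.of_iso ((tensorBy J).map_isZero h) ((tensorBy J).objObjPreimageIso A).symm)
    · exact Or.inr (IsZero.of_iso ((tensorBy J).map_isZero h) ((tensorBy J).objObjPreimageIso B).symm)

variable {k : Type u} [Field k] {X : Scheme.{u}} (p : X ⟶ Spec (CommRingCat.of k))
  (K : Type u) [Field K] [Algebra k K] {N N' : (W4bk4gw11416.baseChange p K).Modules}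

/-- Twisting the type. -/
theorem type_tensor {E J : X.Modules} {d : ℕ} (e : bcMod p K E ≅ pow N d)
    (i : Nonempty (CohB1.tensorMod N (bcMod p K J) ≅ N')) :
    Nonempty (bcMod p K (CohB1.tensorMod E J) ≅ pow N' d) := by
  obtain ⟨s⟩ := pow_tensor N (bcMod p K J) d
  exact ⟨TensorMod.Pullback.pullbackTensorIso (proj p K) E J ≪≫ tensorIso e (Iso.refl _) ≪≫ s ≪≫
    Sigma.mapIso fun _ => i.some⟩

/-- Tensor products of types. -/
theorem type_mul {E F : X.Modules} {a b : ℕ} (e : bcMod p K E ≅ pow N a) (f : bcMod p K F ≅ pow N' b) :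
    Nonempty (bcMod p K (CohB1.tensorMod E F) ≅ pow (CohB1.tensorMod N N') (a * b)) := by
  obtain ⟨s⟩ := pow_tensor N (pow N' b) a
  obtain ⟨t⟩ := pow_tensor N' N b
  exact ⟨TensorMod.Pullback.pullbackTensorIso (proj p K) E F ≪≫ tensorIso e f ≪≫ s ≪≫
    Sigma.mapIso (fun _ => comm _ _ ≪≫ t ≪≫ Sigma.mapIso fun _ => comm _ _) ≪≫
    sigmaSigmaIso (fun _ : Fin a => Fin b) (fun _ _ => CohB1.tensorMod N N') ≪≫
    (Sigma.whiskerEquiv (finProdFinEquiv.symm.trans (Equiv.sigmaEquivProd (Fin a) (Fin b)).symm)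
      (fun _ => Iso.refl _)).symm⟩

variable [IsProper p] [Algebra.IsAlgebraic k K] [ConnectedSpace ↥(W4bk4gw11416.baseChange p K)]

/-- Tensor powers of a bundle of type `L` have the powers of `L` as type. -/
theorem exists_type_pow {L : (W4bk4gw11416.baseChange p K).Modules} {M : X.Modules}
    (hM : FlatMod.IsFinLocFree M) {d : ℕ} (hd : 0 < d) (e : bcMod p K M ≅ pow L d) :
    ∀ j : ℕ, ∃ (E : X.Modules) (c : ℕ), FlatMod.IsFinLocFree E ∧ 0 < c ∧
      Nonempty (bcMod p K E ≅ pow (CohB1.tensorPow L j) c)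
  | 0 => ⟨Coh.structureModule X, 1,
      TensorMod.LocFree.of_rank (TensorMod.LocFree.of_isInvertible (PicLoc.isInvertible_structureModule X)),
      one_pos, ⟨PicLoc.pullbackStructureIso _ ≪≫
        (coproductUniqueIso fun _ : Fin 1 => Coh.structureModule (W4bk4gw11416.baseChange p K)).symm⟩⟩
  | j + 1 => by
    obtain ⟨E, c, hE, hc, ⟨f⟩⟩ := exists_type_pow hM hd e j
    exact ⟨CohB1.tensorMod E M, c * d, TensorMod.LocFree.isFinLocFree_tensorMod hE hM, Nat.mul_pos hc hd,
      type_mul p K f e⟩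

/-- An indecomposable whose base change splits into types of known indecomposables is one of them. -/
theorem exists_iso_of_split {E : X.Modules} (hE : FlatMod.IsFinLocFree E) (hEi : KS.Ind E)
    {s : ℕ} {Ls : Fin s → (W4bk4gw11416.baseChange p K).Modules} (ψ : bcMod p K E ≅ ∐ Ls)
    (W : Fin s → X.Modules) (hW : ∀ i, FlatMod.IsFinLocFree (W i)) (hWi : ∀ i, KS.Ind (W i))
    (r : Fin s → ℕ) (hr : ∀ i, 0 < r i) (hWt : ∀ i, Nonempty (bcMod p K (W i) ≅ pow (Ls i) (r i))) :
    ∃ i, Nonempty (E ≅ W i) := by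
  classical
  haveI : IsLocallyNoetherian X := LocallyOfFiniteType.isLocallyNoetherian p
  let R := ∏ i, r i
  let m : Fin s → ℕ := fun i => R / r i
  have hRpos : 0 < R := Finset.prod_pos fun i _ => hr i
  have hm : ∀ i, r i * m i = R := fun i => Nat.mul_div_cancel' (Finset.dvd_prod_of_mem r (Finset.mem_univ i))
  have hEc := Perfect.Coherent.isCoh_of_isFinLocFree hE
  let T : Fin s → X.Modules := fun i => pow (W i) (m i)
  have hTc : ∀ i, Coh.IsCoh (T i) := fun i => KBC.isCoh_pow (Perfect.Coherent.isCoh_of_isFinLocFree (hW i)) _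
  have hTsum : Coh.IsCoh (∐ T) := CohBasics.Closure.isCoh_of_iso (KS.bsum_ofFn T).some
    (KBC.isCoh_bsum fun S hS => by obtain ⟨i, rfl⟩ := List.mem_ofFn.1 hS; exact hTc i)
  haveI := (Scheme.Modules.pullbackPushforwardAdjunction (proj p K)).leftAdjoint_preservesColimits
  let b1 : ∀ i, bcMod p K (T i) ≅ pow (Ls i) R := fun i =>
    KBC.bcPow p K (W i) (m i) ≪≫ Sigma.mapIso (fun _ => (hWt i).some) ≪≫
      sigmaSigmaIso (fun _ : Fin (m i) => Fin (r i)) (fun _ _ => Ls i) ≪≫
      (Sigma.whiskerEquiv ((finCongr (by rw [Nat.mul_comm, hm i] : m i * r i = R)).symm.trans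
        ((finProdFinEquiv.symm).trans (Equiv.sigmaEquivProd (Fin (m i)) (Fin (r i))).symm))
        (fun _ => Iso.refl _)).symm
  let swap : (∐ fun i => pow (Ls i) R) ≅ pow (∐ Ls) R :=
  { hom := Sigma.desc fun i => Sigma.desc fun a => Sigma.ι Ls i ≫ Sigma.ι (fun _ : Fin R => ∐ Ls) a
    inv := Sigma.desc fun a => Sigma.desc fun i =>
      Sigma.ι (fun _ : Fin R => Ls i) a ≫ Sigma.ι (fun i => pow (Ls i) R) i
    hom_inv_id := Sigma.hom_ext _ _ fun a => Sigma.hom_ext _ _ fun b => by simp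
    inv_hom_id := Sigma.hom_ext _ _ fun b => Sigma.hom_ext _ _ fun a => by simp }
  obtain ⟨χ⟩ := KBC.iso_of_bc p K (KBC.isCoh_pow hEc R) hTsum
    (KBC.bcPow p K E R ≪≫ Sigma.mapIso (fun _ => ψ) ≪≫ swap.symm ≪≫ (Sigma.mapIso b1).symm ≪≫
      (PreservesCoproduct.iso (Scheme.Modules.pullback (proj p K)) T).symm)
  obtain ⟨φT⟩ := KS.bsum_flatten (List.ofFn fun i => List.replicate (m i) (W i))
  have hT : Nonempty (∐ T ≅ KS.bsum (List.ofFn fun i => List.replicate (m i) (W i)).flatten) := by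
    refine ⟨(KS.bsum_ofFn T).some.symm ≪≫ ?_ ≪≫ φT⟩
    rw [List.map_ofFn]
    exact (KS.bsum_ofFn _).some ≪≫ Sigma.mapIso (fun i => (KS.bsum_ofFn fun _ : Fin (m i) => W i).some.symm ≪≫
      (KS.bsum_ext (List.ofFn_const _ _)).some) ≪≫ (KS.bsum_ofFn _).some.symm
  have hp := KS.decomposition_unique (l := List.ofFn fun _ : Fin R => E)
    (l' := (List.ofFn fun i => List.replicate (m i) (W i)).flatten)
    (fun S hS => by obtain ⟨i, rfl⟩ := List.mem_ofFn.1 hS; exact KBC.good_of_ind p hEc hEi)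
    (fun S hS => by
      obtain ⟨l', hl', hS⟩ := List.mem_flatten.1 hS
      obtain ⟨i, rfl⟩ := List.mem_ofFn.1 hl'
      rw [List.eq_of_mem_replicate hS]
      exact KBC.good_of_ind p (Perfect.Coherent.isCoh_of_isFinLocFree (hW i)) (hWi i))
    ((KS.bsum_ofFn _).some ≪≫ χ ≪≫ hT.some)
  have hmem : KS.cls E ∈ ((List.ofFn fun i => List.replicate (m i) (W i)).flatten).map KS.cls :=
    hp.subset (List.mem_map.mpr ⟨E, List.mem_ofFn.2 ⟨⟨0, hRpos⟩, rfl⟩, rfl⟩)
  obtain ⟨S', hS', hcls⟩ := List.mem_map.mp hmem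
  obtain ⟨l', hl', hS'⟩ := List.mem_flatten.1 hS'
  obtain ⟨i, rfl⟩ := List.mem_ofFn.1 hl'
  obtain rfl := List.eq_of_mem_replicate hS'
  exact ⟨i, ⟨(Quotient.exact hcls : Nonempty (W i ≅ E)).some.symm⟩⟩

end Groth.Agent.Lib.SBTwist.Generic
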