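import Groth.Agent.Lib.CohDelta.KBC.Isotypic
import Groth.Agent.Lib.CohDelta.KBC.Simple
import Groth.Agent.Lib.CohDelta.KS.Cancel
import Groth.Agent.Lib.Cyc.CH.DualPullback
import Groth.Agent.Lib.CurveBundle.WeilDual
import Groth.Agent.Lib.KAugNil98.Main
import Groth.Agent.H90.ConnFun
import Groth.Agent.H78.Faithful.HomLocFree

/-!
# Modules which become sums of copies of an invertible module
-/

set_option autoImplicit false
set_option linter.style.haveILetI false
universe u

open CategoryTheory CategoryTheory.Limits AlgebraicGeometry ZeroObject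

noncomputable section

namespace Groth.Agent.Lib.SBTwist.Generic

open Groth.Agent.Lib CohDelta W4c1astiltbs12 TensorMod.Basic CurveBundle

section scheme

variable {Y : Scheme.{u}}

/-- An invertible module on a connected scheme is indecomposable. -/
theorem ind_invertible [ConnectedSpace Y] {L : Y.Modules} (hL : PicF.IsInvertible L) : KS.Ind L := by
  obtain ⟨y⟩ : Nonempty Y := inferInstance
  haveI : (tensorBy L).IsEquivalence := CurveBundle.Twist.isEquivalence hL
  haveI : (tensorBy L).Additive := GP.additive_tensorBy _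
  let u : (tensorBy L).obj (Coh.structureModule Y) ≅ L := leftUnit L
  have hf : ∀ f : L ⟶ L, f ≫ f = f → f = 0 ∨ f = 𝟙 L := fun f hff => by
    obtain ⟨ψ, hψ⟩ := (tensorBy L).map_surjective (u.hom ≫ f ≫ u.inv)
    let r : Γ(Y, ⊤) := ψ.app ⊤ (1 : Γ(Y, ⊤))
    have e1 : ψ = EndAlg.scal (Coh.structureModule Y) r := Modules.Free.unitHom_ext (by
      rw [EndAlg.scal_app]
      have h1 : (Y.presheaf.map (homOfLE (le_top (a := (⊤ : Y.Opens)))).op r : Γ(Y, ⊤)) = r := by simp
      rw [h1]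
      exact (mul_one r).symm)
    have e2 : f = EndAlg.scal L r := by
      have h2 : u.hom ≫ f ≫ u.inv = EndAlg.scal _ r :=
        hψ.symm.trans ((congrArg (tensorBy L).map e1).trans (GP.tmap_scal _ L r))
      rw [← cancel_epi u.hom, ← cancel_mono u.inv, Category.assoc, h2,
        ← EndAlg.scal_comm u.hom, Category.assoc, u.hom_inv_id, Category.comp_id]
    have hψψ : ψ ≫ ψ = ψ := (tensorBy L).map_injective (by
      rw [Functor.map_comp, hψ]
      simp only [Category.assoc, Iso.inv_hom_id_assoc]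
      rw [← Category.assoc f, hff])
    have hr : IsIdempotentElem r := by
      have h3 := congrArg (fun q => Scheme.Modules.Hom.app q ⊤ (1 : Γ(Y, ⊤))) hψψ
      simp only [Scheme.Modules.Hom.comp_app, CategoryTheory.comp_apply] at h3
      refine Eq.trans ?_ h3
      conv_rhs => rw [e1, EndAlg.scal_app, EndAlg.scal_app]
      simp
      exact (congrArg (r * ·) (mul_one r)).symm
    rcases H90.ConnFun.idempotent_eq_zero_or_one r hr with h | h
    · left
      rw [e2, h]
      exact map_zero (EndAlg.scalHom L)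
    · right
      rw [e2, h]
      exact map_one (EndAlg.scalHom L)
  refine ⟨fun hz => ?_, fun A B ⟨φ⟩ => ?_⟩
  · haveI : (tensorBy L).Faithful := inferInstance
    have h1 : 𝟙 (Coh.structureModule Y) = 0 := (tensorBy L).map_injective
      ((IsZero.of_iso hz u).eq_of_src _ _)
    have h2 := congrArg (fun q => Scheme.Modules.Hom.app q ⊤ (1 : Γ(Y, ⊤))) h1
    have h3 : (1 : Γ(Y, ⊤)) = 0 := h2
    haveI : Nontrivial Γ(Y, ⊤) :=
      (Y.presheaf.germ ⊤ y trivial).hom.domain_nontrivial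
    exact one_ne_zero h3
  · rcases hf (φ.hom ≫ biprod.fst ≫ biprod.inl ≫ φ.inv) (by simp) with h | h
    · left
      rw [IsZero.iff_id_eq_zero]
      have h1 := congrArg (fun q => biprod.inl ≫ φ.inv ≫ q ≫ φ.hom ≫ biprod.fst) h
      simpa using h1
    · right
      rw [IsZero.iff_id_eq_zero]
      have h1 := congrArg (fun q => biprod.inr ≫ φ.inv ≫ q ≫ φ.hom ≫ biprod.snd) h
      simpa using h1.symm

/-- Duals of sums. -/
theorem dual_bsum [IsLocallyNoetherian Y] : ∀ {l : List Y.Modules}, (∀ S ∈ l, Coh.IsCoh S) →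
    Nonempty (RefHull.dual (KS.bsum l) ≅ KS.bsum (l.map RefHull.dual))
  | [], _ => ⟨(WeilDual.isZero_dual KBC.isCoh_zero (isZero_zero _)).iso (isZero_zero _)⟩
  | a :: l, h => by
    have ha := h a List.mem_cons_self
    have hl := fun S hS => h S (List.mem_cons_of_mem a hS)
    obtain ⟨i⟩ := dual_bsum hl
    exact ⟨WeilDual.dualBiprod ha (KBC.isCoh_bsum hl) (CohBasics.Closure.isCoh_biprod ha (KBC.isCoh_bsum hl)) ≪≫
      biprod.mapIso (Iso.refl _) i⟩

/-- The dual of a sum of copies. -/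
theorem dual_pow [IsLocallyNoetherian Y] {N : Y.Modules} (hN : Coh.IsCoh N) (d : ℕ) :
    Nonempty (RefHull.dual (pow N d) ≅ pow (RefHull.dual N) d) := by
  have hl : ∀ S ∈ List.ofFn (fun _ : Fin d => N), Coh.IsCoh S := fun S hS => by
    obtain ⟨i, rfl⟩ := List.mem_ofFn.1 hS; exact hN
  obtain ⟨i⟩ := dual_bsum hl
  exact ⟨WeilDual.dualCongr (KBC.isCoh_pow hN d) (KBC.isCoh_bsum hl) (KS.bsum_ofFn _).some.symm ≪≫ i ≪≫
    (KS.bsum_ext List.map_ofFn).some ≪≫ (KS.bsum_ofFn _).some⟩

end scheme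

variable {k : Type u} [Field k] {X : Scheme.{u}} (p : X ⟶ Spec (CommRingCat.of k)) [IsProper p]
  (K : Type u) [Field K] [Algebra k K] [Algebra.IsAlgebraic k K]

/-- A good object has at most one multiplicity. -/
theorem pow_inj (q : X ⟶ Spec (CommRingCat.of k)) [IsProper q] {N N' : X.Modules}
    (hN : Coh.IsCoh N) (hNi : KS.Ind N) (hN' : Coh.IsCoh N') (hN'i : KS.Ind N') {a b : ℕ}
    (e : pow N a ≅ pow N' b) : a = b := by
  have hp := KS.decomposition_unique (l := List.ofFn fun _ : Fin a => N) (l' := List.ofFn fun _ : Fin b => N')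
    (fun S hS => by obtain ⟨i, rfl⟩ := List.mem_ofFn.1 hS; exact KBC.good_of_ind q hN hNi)
    (fun S hS => by obtain ⟨i, rfl⟩ := List.mem_ofFn.1 hS; exact KBC.good_of_ind q hN' hN'i)
    ((KS.bsum_ofFn _).some ≪≫ e ≪≫ (KS.bsum_ofFn _).some.symm)
  simpa using hp.length_eq

/-- A retract of a power of a good object is a power. -/
theorem retract_pow (q : X ⟶ Spec (CommRingCat.of k)) [IsProper q] {L S : X.Modules}
    (hL : Coh.IsCoh L) (hLi : KS.Ind L) {r : ℕ} (i' : S ⟶ pow L r) (t' : pow L r ⟶ S)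
    (hi't' : i' ≫ t' = 𝟙 S) : ∃ a, Nonempty (S ≅ pow L a) := by
  classical
  haveI : IsLocallyNoetherian X := LocallyOfFiniteType.isLocallyNoetherian q
  haveI : IsSplitMono i' := ⟨⟨⟨t', hi't'⟩⟩⟩
  let C := cokernel i'
  let ses : ShortComplex X.Modules := ShortComplex.mk i' (cokernel.π i') (cokernel.condition i')
  have hs : ses.Splitting := ShortComplex.Splitting.ofExactOfRetraction ses
    (ShortComplex.exact_cokernel i') t' hi't' (inferInstanceAs (Epi (cokernel.π i')))
  let dec : S ⊞ C ≅ pow L r := hs.isoBinaryBiproduct.symm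
  have hcohr : Coh.IsCoh (pow L r) := KBC.isCoh_pow hL r
  obtain ⟨a, ha, ⟨ea⟩⟩ := KBC.exists_decomp q S (KBC.isCoh_retract i' t' hi't' hcohr)
  obtain ⟨c, hc, ⟨ec⟩⟩ := KBC.exists_decomp q C
    (KBC.isCoh_retract (biprod.inr ≫ dec.hom) (dec.inv ≫ biprod.snd) (by simp) hcohr)
  have hp := KS.decomposition_unique (l := a ++ c) (l' := List.ofFn fun _ : Fin r => L)
    (fun T hT => (List.mem_append.mp hT).elim (ha T) (hc T))
    (fun T hT => by obtain ⟨i, rfl⟩ := List.mem_ofFn.1 hT; exact KBC.good_of_ind q hL hLi)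
    ((KS.bsum_append a c).some.symm ≪≫ (biprod.mapIso ea ec).symm ≪≫ dec ≪≫ (KS.bsum_ofFn _).some.symm)
  have hall : a.map KS.cls = List.replicate a.length (KS.cls L) := by
    refine List.eq_replicate_iff.mpr ⟨List.length_map _, fun z hz => ?_⟩
    have hz' := hp.subset (by rw [List.map_append]; exact List.mem_append_left _ hz)
    rw [List.ofFn_const, List.map_replicate] at hz'
    exact List.eq_of_mem_replicate hz'
  obtain ⟨eA⟩ := KS.iso_of_cls_perm (l := a) (m := List.ofFn fun _ : Fin a.length => L)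
    (by rw [hall, List.ofFn_const, List.map_replicate])
  exact ⟨a.length, ⟨ea ≪≫ eA ≪≫ (KS.bsum_ofFn _).some⟩⟩

variable [ConnectedSpace ↥(W4bk4gw11416.baseChange p K)] {N : (W4bk4gw11416.baseChange p K).Modules}

/-- A bundle of type `N` is a sum of copies of one indecomposable of type `N`. -/
theorem exists_ind (hN : PicF.IsInvertible N) {E : X.Modules} (hE : FlatMod.IsFinLocFree E) {d : ℕ}
    (hd : 0 < d) (e : bcMod p K E ≅ pow N d) :
    ∃ (G : X.Modules) (m a : ℕ), FlatMod.IsFinLocFree G ∧ KS.Ind G ∧ 0 < a ∧ d = a * m ∧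
      Nonempty (bcMod p K G ≅ pow N a) := by
  haveI : IsLocallyNoetherian X := LocallyOfFiniteType.isLocallyNoetherian p
  haveI : IsProper (W4bk4gw11416.baseChangeTo p K) := MorphismProperty.pullback_snd p _ ‹IsProper p›
  haveI := KBC.additive_pullback (proj p K)
  have hNi := ind_invertible hN
  have hNc := Ample.GG.isCoh_of_isInvertible hN
  have hE0 : ¬ IsZero E := fun hz => hNi.1 <| by
    have h1 := IsZero.of_iso ((Scheme.Modules.pullback (proj p K)).map_isZero hz) e.symm
    rw [IsZero.iff_id_eq_zero] at h1 ⊢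
    have h2 := congrArg (fun q => Sigma.ι (fun _ : Fin d => N) ⟨0, hd⟩ ≫ q ≫ Sigma.desc fun _ => 𝟙 _) h1
    simpa using h2
  obtain ⟨G, m, hGc, hGi, ⟨i, t, hit⟩, -, ⟨φ⟩⟩ :=
    KBC.exists_pow_of_isotypic p K (Perfect.Coherent.isCoh_of_isFinLocFree hE) hE0 hNc hNi e
  obtain ⟨a, ⟨ea⟩⟩ := retract_pow (W4bk4gw11416.baseChangeTo p K) hNc hNi
    ((Scheme.Modules.pullback (proj p K)).map i ≫ e.hom)
    (e.inv ≫ (Scheme.Modules.pullback (proj p K)).map t) (by
      rw [Category.assoc, Iso.hom_inv_id_assoc, ← Functor.map_comp, hit, CategoryTheory.Functor.map_id])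
  have hd' : d = a * m := by
    refine pow_inj (W4bk4gw11416.baseChangeTo p K) hNc hNi hNc hNi (e.symm ≪≫
      (Scheme.Modules.pullback _).mapIso φ ≪≫ KBC.bcPow p K G m ≪≫ Sigma.mapIso (fun _ => ea) ≪≫
      sigmaSigmaIso (fun _ : Fin m => Fin a) (fun _ _ => N) ≪≫
      (Sigma.whiskerEquiv ((finCongr (Nat.mul_comm m a)).symm.trans (finProdFinEquiv.symm.trans
        (Equiv.sigmaEquivProd (Fin m) (Fin a)).symm)) (fun _ => Iso.refl _)).symm)
  exact ⟨G, m, a, KBC.isFinLocFree_retract i t hit hE, hGi,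
    Nat.pos_of_ne_zero fun h => by subst h; simp at hd'; omega, hd', ⟨ea⟩⟩

/-- The multiplicity of an indecomposable of type `N` divides that of any bundle of type `N`. -/
theorem mult_dvd (hN : PicF.IsInvertible N) {W E : X.Modules} (hW : FlatMod.IsFinLocFree W)
    (hWi : KS.Ind W) {r : ℕ} (eW : bcMod p K W ≅ pow N r)
    (hE : FlatMod.IsFinLocFree E) {d : ℕ} (hd : 0 < d) (e : bcMod p K E ≅ pow N d) : r ∣ d := by
  haveI : IsLocallyNoetherian X := LocallyOfFiniteType.isLocallyNoetherian p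
  haveI : IsProper (W4bk4gw11416.baseChangeTo p K) := MorphismProperty.pullback_snd p _ ‹IsProper p›
  obtain ⟨G, m, a, hG, hGi, -, hdm, ⟨ea⟩⟩ := exists_ind p K hN hE hd e
  obtain ⟨φ⟩ := KBC.iso_of_isotypic p K (Perfect.Coherent.isCoh_of_isFinLocFree hG)
    (Perfect.Coherent.isCoh_of_isFinLocFree hW) hGi hWi ea eW
  have hNc := Ample.GG.isCoh_of_isInvertible hN
  have har : a = r := pow_inj (W4bk4gw11416.baseChangeTo p K) hNc (ind_invertible hN) hNc (ind_invertible hN)
    (ea.symm ≪≫ (Scheme.Modules.pullback _).mapIso φ ≪≫ eW)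
  exact ⟨m, har ▸ hdm⟩

/-- The dual of a bundle of type `N` has type the dual of `N`. -/
theorem dual_type (hN : PicF.IsInvertible N) {E : X.Modules} (hE : FlatMod.IsFinLocFree E) {d : ℕ}
    (e : bcMod p K E ≅ pow N d) :
    FlatMod.IsFinLocFree (RefHull.dual E) ∧ Nonempty (bcMod p K (RefHull.dual E) ≅ pow (RefHull.dual N) d) := by
  haveI : IsLocallyNoetherian X := LocallyOfFiniteType.isLocallyNoetherian p
  haveI : IsProper (W4bk4gw11416.baseChangeTo p K) := MorphismProperty.pullback_snd p _ ‹IsProper p›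
  haveI : IsLocallyNoetherian (W4bk4gw11416.baseChange p K) :=
    LocallyOfFiniteType.isLocallyNoetherian (W4bk4gw11416.baseChangeTo p K)
  have hsurj : Function.Surjective (proj p K) := by
    haveI : Surjective (Spec.map (CommRingCat.ofHom (algebraMap k K))) :=
      ⟨fun t => ⟨IsLocalRing.closedPoint K, Subsingleton.elim _ _⟩⟩
    haveI : Surjective (proj p K) := MorphismProperty.pullback_fst p _ ‹_›
    exact (proj p K).surjective
  haveI : ConnectedSpace X := hsurj.connectedSpace (proj p K).continuous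
  obtain ⟨n, hn⟩ := KAugNil98.Main.exists_rank hE
  obtain ⟨i⟩ := Cyc.CH.nonempty_pullback_dual_iso (proj p K) hn
  obtain ⟨j⟩ := dual_pow (Ample.GG.isCoh_of_isInvertible hN) d
  exact ⟨H78.Faithful.HomLocFree.isFinLocFree_homSh hE
      (TensorMod.LocFree.of_rank (TensorMod.LocFree.of_isInvertible (PicLoc.isInvertible_structureModule X))),
    ⟨i ≪≫ WeilDual.dualCongr
      (Perfect.Coherent.isCoh_of_isFinLocFree (TensorMod.LocFree.isFinLocFree_pullback (proj p K) hE))
      (KBC.isCoh_pow (Ample.GG.isCoh_of_isInvertible hN) d) e ≪≫ j⟩⟩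

/-- Dual types have the same multiplicity. -/
theorem mult_dual (hN : PicF.IsInvertible N) {N' : (W4bk4gw11416.baseChange p K).Modules}
    (hN' : PicF.IsInvertible N') (hd' : Nonempty (RefHull.dual N ≅ N')) (hd : Nonempty (RefHull.dual N' ≅ N))
    {W W' : X.Modules} (hW : FlatMod.IsFinLocFree W) (hW' : FlatMod.IsFinLocFree W')
    (hWi : KS.Ind W) (hW'i : KS.Ind W') {r r' : ℕ} (hr : 0 < r) (hr' : 0 < r')
    (eW : bcMod p K W ≅ pow N r) (eW' : bcMod p K W' ≅ pow N' r') : r = r' := by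
  obtain ⟨hDW, ⟨eDW⟩⟩ := dual_type p K hN hW eW
  obtain ⟨hDW', ⟨eDW'⟩⟩ := dual_type p K hN' hW' eW'
  exact Nat.dvd_antisymm
    (mult_dvd p K hN hW hWi eW hDW' hr' (eDW' ≪≫ Sigma.mapIso fun _ => hd.some))
    (mult_dvd p K hN' hW' hW'i eW' hDW hr (eDW ≪≫ Sigma.mapIso fun _ => hd'.some))

end Groth.Agent.Lib.SBTwist.Generic

namespace Groth.Agent.Lib.SBTwist.Generic

/-- An inverse is the dual. -/
theorem dual_of_cancel {Y : Scheme.{u}} {N N' : Y.Modules} (hN : PicF.IsInvertible N)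
    (i : Nonempty (CohB1.tensorMod N N' ≅ Coh.structureModule Y)) : Nonempty (RefHull.dual N ≅ N') :=
  ⟨RefHull.DualComp.dualIso N ≪≫ TensorMod.Invertible.cancelRight hN
    (TensorMod.Basic.comm _ _ ≪≫ TensorMod.Invertible.tensorDualIso hN ≪≫ i.some.symm ≪≫ TensorMod.Basic.comm _ _)⟩

end Groth.Agent.Lib.SBTwist.Generic
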