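import Groth.Agent.Lib.PicProjOver.General
import Groth.Agent.Lib.PnStable.Resolution
import Groth.Agent.H21.ThickEquiv.Killed

/-!
# Automorphisms of the scheme `P^n_K` fix the twisting sheaves
-/

set_option autoImplicit false
set_option linter.style.haveILetI false
universe u

open CategoryTheory CategoryTheory.Limits AlgebraicGeometry

noncomputable section

namespace Groth.Agent.Lib.SBTwist

open Groth.Agent.Lib ProjCoh ProjCoh.Coherent

variable {n : ℕ} {K : Type u} [Field K]

attribute [local instance] TensorMod.Invertible.law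

/-- On `P^0` all twists are trivial. -/
theorem nonempty_tw_zero_dim (R : Type u) [CommRing R] (d : ℤ) :
    Nonempty (tw 0 R d ≅ Coh.structureModule (CohB1.ProjSpace 0 R)) := by
  have h1 : (⊤ : (CohB1.ProjSpace 0 R).Opens) ≤ PicProj.Main.U 0 R 0 := by
    refine (ProjSpace.Basic.iSup_basicOpen_X_eq_top 0 R).ge.trans (iSup_le fun i => ?_)
    rw [Fin.eq_zero i]
  exact PicGen.OpenUFD.nonempty_iso_of_gen _
    ((ProjSpace.TwistBC.isGen_gen' (n := 0) (R := R) d 0).res h1)

theorem eq_or_dim_zero {a b : ℤ} (h : Nonempty (tw n K a ≅ tw n K b)) : a = b ∨ n = 0 := by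
  rcases Nat.eq_zero_or_pos n with hn | hn
  · exact Or.inr hn
  · exact Or.inl (PicProj.Main.twist_iso_unique hn h.some)

theorem iso_of_eq_or {a b : ℤ} (h : a = b ∨ n = 0) : Nonempty (tw n K a ≅ tw n K b) := by
  rcases h with rfl | rfl
  · exact ⟨Iso.refl _⟩
  · obtain ⟨e⟩ := nonempty_tw_zero_dim K a
    obtain ⟨e'⟩ := nonempty_tw_zero_dim K b
    exact ⟨e ≪≫ e'.symm⟩

/-- Pullback along an automorphism of the scheme `P^n_K` fixes `O(j)`. -/
theorem nonempty_pullback_auto (φ : CohB1.ProjSpace n K ⟶ CohB1.ProjSpace n K) [IsIso φ] (j : ℤ) :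
    Nonempty ((Scheme.Modules.pullback φ).obj (tw n K j) ≅ tw n K j) := by
  rcases Nat.eq_zero_or_pos n with rfl | hn
  · obtain ⟨e⟩ := nonempty_tw_zero_dim K j
    exact ⟨(Scheme.Modules.pullback φ).mapIso e ≪≫ PicLoc.pullbackStructureIso φ ≪≫ e.symm⟩
  let t : ℤ → PicLoc.PicSet (CohB1.ProjSpace n K) := fun d => PicGrp.cls (tw n K d) (isInvertible_tw d)
  have hmul : ∀ a b, t (a + b) = t a * t b := fun a b => Subtype.ext <|
    (Quot.sound ⟨(twTensor (n := n) (R := K) a b).symm⟩).trans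
      (PicGrp.cls_mul_cls_val (isInvertible_tw a) (isInvertible_tw b)).symm
  have hpow : ∀ a : ℤ, t a = t 1 ^ a := by
    have h0 : t 0 = 1 := (PicGrp.cls_eq_one_iff _).2 ⟨twZero⟩
    intro a
    induction a using Int.induction_on with
    | zero => rw [h0, zpow_zero]
    | succ i hi => rw [hmul, hi, zpow_add_one]
    | pred i hi =>
      rw [zpow_sub_one, ← hi, eq_mul_inv_iff_mul_eq, ← hmul]
      congr 1
      ring
  have hinj : ∀ {a b}, t a = t b → a = b := fun h =>
    PicProj.Main.twist_iso_unique hn ((PicGrp.cls_eq_cls_iff _ _).1 h).some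
  have hdeg : ∀ (ψ : CohB1.ProjSpace n K ⟶ CohB1.ProjSpace n K) [IsIso ψ], ∃ d : ℤ, 0 ≤ d ∧
      ∀ a, PicGrp.pullHom ψ (TensorMod.Pullback.pullMul ψ) (t a) = t (d * a) := by
    intro ψ _
    obtain ⟨d, ⟨e⟩⟩ := PicProj.Main.exists_twist_iso (R := K) ((Scheme.Modules.pullback ψ).obj (tw n K 1))
      (PicLoc.isInvertible_pullback ψ (isInvertible_tw 1))
    have h1 : PicGrp.pullHom ψ (TensorMod.Pullback.pullMul ψ) (t 1) = t d :=
      (PicGrp.pullHom_cls _ _ _ _).trans ((PicGrp.cls_eq_cls_iff _ _).2 ⟨e⟩)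
    refine ⟨d, ?_, fun a => ?_⟩
    · by_contra hd
      obtain ⟨ν, hν⟩ := PnStable.Serre.exists_mono_shift (n := n) (k := K) zero_le_one
      haveI := H21.ThickEquiv.isEquivalence_pullback ψ
      refine PnStable.Serre.ne_zero_of_mono ν ?_
      haveI : (Scheme.Modules.pullback ψ).Additive :=
        (Scheme.Modules.pullbackPushforwardAdjunction ψ).left_adjoint_additive
      refine (Scheme.Modules.pullback ψ).map_injective ?_
      rw [Functor.map_zero]
      exact PnStable.Serre.hom_zero_congr ((Scheme.Modules.pullback ψ).mapIso twZero ≪≫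
        PicLoc.pullbackStructureIso ψ ≪≫ twZero.symm).symm e.symm
        (PnStable.Resolution.hom_zero_neg hn (not_le.1 hd)) _
    · rw [hpow a, map_zpow, h1, hpow d, ← zpow_mul, ← hpow]
  obtain ⟨d, hd, hφ⟩ := hdeg φ
  obtain ⟨d', hd', hφ'⟩ := hdeg (inv φ)
  have hdd : d * d' = 1 := by
    refine hinj ?_
    have e2 : PicGrp.pullHom φ (TensorMod.Pullback.pullMul φ)
        (PicGrp.pullHom (inv φ) (TensorMod.Pullback.pullMul (inv φ)) (t 1)) = t 1 := Subtype.ext <| by
      show PicF.pullCl φ (PicF.pullCl (inv φ) (t 1).1) = (t 1).1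
      rw [← PicLoc.pullCl_comp, IsIso.hom_inv_id, PicLoc.pullCl_id]
    rwa [hφ', hφ, mul_one] at e2
  obtain rfl : d = 1 := Int.eq_one_of_mul_eq_one_right hd hdd
  exact (PicGrp.cls_eq_cls_iff (PicLoc.isInvertible_pullback φ (isInvertible_tw j)) (isInvertible_tw j)).1
    ((PicGrp.pullHom_cls _ (TensorMod.Pullback.pullMul φ) _ _).symm.trans ((hφ j).trans (by rw [one_mul])))

end Groth.Agent.Lib.SBTwist
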