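import Groth.Agent.S8230
import Groth.Agent.H69.PicStage.Main
import Groth.Prelude.Def_BrSev

/-!
# Invertible modules on `X_K` are defined over finite subextensions
-/

set_option autoImplicit false
set_option linter.style.haveILetI false
universe u

open CategoryTheory CategoryTheory.Limits AlgebraicGeometry Opposite

noncomputable section

namespace Groth.Agent.Lib.SBTwist

open Groth.Agent.S8230

variable {k : Type u} [Field k] {X : Scheme.{u}} (f : X ⟶ Spec (CommRingCat.of k))
  (K : Type u) [Field K] [Algebra k K]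

/-- An invertible module on `X_K` is defined over a finite subextension. -/
theorem exists_descend [IsProper f] [Algebra.IsAlgebraic k K] (N : (BrSev.bc f K).Modules)
    (hN : PicF.IsInvertible N) :
    ∃ L : Fin' k K, ∃ (cL : BrSev.bc f K ⟶ BrSev.bc f L.1) (M : (BrSev.bc f L.1).Modules),
      cL ≫ BrSev.proj f L.1 = BrSev.proj f K ∧
      cL ≫ BrSev.bcTo f L.1 = BrSev.bcTo f K ≫ Spec.map (CommRingCat.ofHom (algebraMap L.1 K)) ∧
      PicF.IsInvertible M ∧ Nonempty ((Scheme.Modules.pullback cL).obj M ≅ N) := by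
  haveI : IsCofiltered (Fin' k K)ᵒᵖ := isCofiltered_op_of_isFiltered _
  haveI : ∀ i, CompactSpace ((diag (K := K) f).obj i) := fun i =>
    have h : CompactSpace (BrSev.bc f i.unop.1) :=
      QuasiCompact.compactSpace_of_compactSpace (BrSev.bcTo f i.unop.1)
    h
  haveI : ∀ i, QuasiSeparatedSpace ((diag (K := K) f).obj i) := fun i =>
    have h : QuasiSeparatedSpace (BrSev.bc f i.unop.1) :=
      quasiSeparatedSpace_of_quasiSeparated (BrSev.bcTo f i.unop.1)
    h
  obtain ⟨hcol⟩ := H69.PicStage.Main.isColimit_invCl (diag (K := K) f) (cone (K := K) f) (isLimit f)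
  obtain ⟨i, ⟨_, M, rfl, hM⟩, hy⟩ := Types.jointly_surjective _ hcol
    (⟨PicF.cl N, N, rfl, hN⟩ : PicLoc.PicSet (BrSev.bc f K))
  refine ⟨i.unop.unop, (cone (K := K) f).π.app i.unop, M, ?_, ?_, hM,
    PerfPic.Basic.cl_eq_iff.1 (congrArg Subtype.val hy)⟩
  · exact (pullback.lift_fst _ _ _).trans (Category.comp_id _)
  · exact pullback.lift_snd _ _ _

end Groth.Agent.Lib.SBTwist
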