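import Groth.Agent.Lib.SBTwist.Auto
import Groth.Agent.Lib.H3.DiscretePic

/-!
# Invertible modules on projective space over a discrete base
-/

set_option autoImplicit false
set_option linter.style.haveILetI false
universe u

open CategoryTheory CategoryTheory.Limits AlgebraicGeometry TopologicalSpace

noncomputable section

namespace Groth.Agent.Lib.SBTwist

open Groth.Agent.Lib ProjCoh ProjCoh.Coherent PicProjOver TensorMod.Gen

attribute [local instance] TensorMod.Invertible.law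

variable {n : ℕ} {S : Scheme.{u}}

local notation "ℙ" => CohB1.ProjSpaceOver n
local notation "πB" => CohB1.ProjSpaceOver.toBase n

theorem twistOver_congr {a b : ℤ} (h : a = b ∨ n = 0) :
    Nonempty (Twist.twistOver n S a ≅ Twist.twistOver n S b) := by
  rcases h with rfl | rfl
  · exact ⟨Iso.refl _⟩
  · obtain ⟨e⟩ := nonempty_tw_zero_dim (ULift.{u} ℤ) a
    obtain ⟨e'⟩ := nonempty_tw_zero_dim (ULift.{u} ℤ) b
    exact ⟨(Scheme.Modules.pullback _).mapIso (e ≪≫ e'.symm)⟩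

/-- An invertible module with a given degree on a field-valued fibre over every point of a
discrete base is a twist. -/
theorem nonempty_iso_twistOver [DiscreteTopology S] (N : (ℙ S).Modules) (hN : PicF.IsInvertible N) (j : ℤ)
    (h : ∀ s : S, ∃ (K : Type u) (_ : Field K) (g : Spec (CommRingCat.of K) ⟶ S),
      (∀ z, g z = s) ∧ Nonempty ((Scheme.Modules.pullback (pt n g)).obj N ≅ tw n K j)) :
    Nonempty (N ≅ Twist.twistOver n S j) := by
  have hU : ∀ s : S, ∃ U : S.Opens, s ∈ U ∧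
      Nonempty ((Scheme.Modules.pullback (πB S ⁻¹ᵁ U).ι).obj N ≅
        (Scheme.Modules.pullback (πB S ⁻¹ᵁ U).ι).obj (Twist.twistOver n S j)) := by
    intro s
    obtain ⟨d, U, hs, hi⟩ := exists_nhd n N hN s
    obtain ⟨K, _, g, hg, ⟨e⟩⟩ := h s
    have hr' : Set.range (pt n g) ⊆ Set.range (πB S ⁻¹ᵁ U).ι := by
      rw [Scheme.Opens.range_ι]
      rintro _ ⟨z, rfl⟩
      show πB S (pt n g z) ∈ U
      rw [← Scheme.Hom.comp_apply, (isPullback_pt n g).w, Scheme.Hom.comp_apply, hg]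
      exact hs
    obtain ⟨i⟩ := iso_of_factor (P := CohB1.ProjSpace n K) _ (pt n g)
      (IsOpenImmersion.lift (πB S ⁻¹ᵁ U).ι (pt n g) hr') (𝟙 _)
      ((IsOpenImmersion.lift_fac _ _ hr').trans (Category.id_comp _).symm) hi
    obtain ⟨ed⟩ := pullback_pt n g d
    have hd : j = d ∨ n = 0 := eq_or_dim_zero (K := K) ⟨e.symm ≪≫ ((Scheme.Modules.pullbackId _).app _).symm ≪≫
      i ≪≫ (Scheme.Modules.pullbackId _).app _ ≪≫ ed⟩
    obtain ⟨c⟩ := twistOver_congr (S := S) hd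
    exact ⟨U, hs, ⟨hi.some ≪≫ (Scheme.Modules.pullback _).mapIso c.symm⟩⟩
  let t := PicGrp.cls _ (isInvertible_twistOver n S j)
  obtain ⟨M, hM, hMc⟩ := PicGrp.exists_eq_cls (PicGrp.cls N hN * t⁻¹)
  have hloc : ∀ s : S, ∃ V : S.Opens, s ∈ V ∧ ∃ l : Γ(M, πB S ⁻¹ᵁ V), IsGen M (πB S ⁻¹ᵁ V) l := fun s => by
    obtain ⟨U, hs, hUi⟩ := hU s
    let q := (πB S ⁻¹ᵁ U).ι
    let p := PicGrp.pullHom q (TensorMod.Pullback.pullMul q)
    have h1 : p (PicGrp.cls N hN) = p t := Subtype.ext ((PicGrp.cl_eq_cl_iff _ _).2 hUi)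
    have h2 : p (PicGrp.cls M hM) = 1 := by rw [← hMc, map_mul, map_inv, h1, mul_inv_cancel]
    obtain ⟨i⟩ := (PicGrp.cls_eq_one_iff (PicLoc.isInvertible_pullback q hM)).1
      ((PicGrp.pullHom_cls q _ M hM).symm.trans h2)
    exact ⟨U, hs, exists_gen_of_iso ((Scheme.Modules.restrictFunctorIsoPullback q).app M ≪≫ i)⟩
  obtain ⟨L, hL, ⟨e⟩⟩ := Cube.SeesawGlobal.exists_of_local_gen (πB S) (push_toBase n S) M hloc
  obtain ⟨eL⟩ := H3.DiscretePic.nonempty_iso hL
  have hM1 : PicGrp.cls M hM = 1 := (PicGrp.cls_eq_one_iff hM).2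
    ⟨e.symm ≪≫ (Scheme.Modules.pullback (πB S)).mapIso eL ≪≫ PicLoc.pullbackStructureIso _⟩
  exact (PicGrp.cls_eq_cls_iff hN (isInvertible_twistOver n S j)).1
    (mul_inv_eq_one.1 (hMc.trans hM1))

end Groth.Agent.Lib.SBTwist
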