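import Groth.Agent.Lib.SBTwist.Fibre
import Groth.Agent.Lib.SBTwist.Descend
import Groth.Agent.Lib.ResDescend36.Proj
import Groth.Agent.Lib.CohDelta.BC.Flat
import Groth.Agent.Lib.FibreDeg.Basic
import Groth.Agent.H97.EulerFinite
import Mathlib.AlgebraicGeometry.AlgClosed.Basic
import Mathlib.AlgebraicGeometry.Morphisms.QuasiFinite

/-!
# A bundle on `X` whose base change is a sum of copies of `O_e(j)`
-/

set_option autoImplicit false
set_option linter.style.haveILetI false
universe u

open CategoryTheory CategoryTheory.Limits AlgebraicGeometry Opposite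

noncomputable section

namespace Groth.Agent.Lib.SBTwist

open Groth.Agent.Lib TensorMod.Basic ProjCoh ProjCoh.Coherent PicProjOver

variable {k : Type u} [Field k] {n : ℕ}

theorem discreteTopology_of_finite {S : Scheme.{u}} {K : Type u} [Field K]
    (h : S ⟶ Spec (CommRingCat.of K)) [IsFinite h] : DiscreteTopology S := by
  let t : (Spec (CommRingCat.of K) : Scheme.{u}) := IsLocalRing.closedPoint K
  have hu : h ⁻¹' {t} = Set.univ := Set.eq_univ_of_forall fun z => Subsingleton.elim _ _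
  have := h.isDiscrete_preimage_singleton t
  rw [hu] at this
  exact isDiscrete_univ_iff.1 this

/-- The transport of a free module to a sum of copies. -/
theorem nonempty_tensor_free {X : Scheme.{u}} (N : X.Modules) (d : ℕ) :
    Nonempty (CohB1.tensorMod N (FlatMod.freeMod X d) ≅ ∐ fun _ : Fin d => N) :=
  have := TensorMod.LocFree.preservesFinCoproducts (tensorBy N) (Fin d)
  ⟨comm _ _ ≪≫ PreservesCoproduct.iso (tensorBy N) _ ≪≫ Sigma.mapIso fun _ => leftUnit N⟩

variable {X : Scheme.{u}} (f : X ⟶ Spec (CommRingCat.of k)) [IsProper f]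
  (K : Type u) [Field K] [Algebra k K] [IsAlgClosure k K]

/-- A finite locally free module on `X` of type `O_e(j)`. -/
theorem exists_push (e : BrSev.Splitting f K n) (j : ℤ) :
    ∃ (E : X.Modules) (d : ℕ), FlatMod.IsFinLocFree E ∧ 0 < d ∧
      Nonempty (BrSev.bcMod f K E ≅ BrSev.pow (e.twist j) d) := by
  haveI : IsAlgClosed K := IsAlgClosure.isAlgClosed k
  haveI : Algebra.IsAlgebraic k K := IsAlgClosure.isAlgebraic
  haveI : Normal k K := IsAlgClosure.normal k K
  have hN : PicF.IsInvertible (e.twist j) :=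
    PicLoc.isInvertible_pullback _ (isInvertible_twistProjSpace n K j)
  obtain ⟨⟨L, hLfin⟩, cL, M, hcL1, hcL2, hM, ⟨β⟩⟩ := exists_descend f K (e.twist j) hN
  change FiniteDimensional k L at hLfin
  haveI := hLfin
  change cL ≫ BrSev.proj f L = _ at hcL1
  change cL ≫ BrSev.bcTo f L = BrSev.bcTo f K ≫ Spec.map (CommRingCat.ofHom (algebraMap L K)) at hcL2
  let sL : Spec (CommRingCat.of L) ⟶ Spec (CommRingCat.of k) :=
    Spec.map (CommRingCat.ofHom (algebraMap k L))
  let sK : Spec (CommRingCat.of K) ⟶ Spec (CommRingCat.of k) :=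
    Spec.map (CommRingCat.ofHom (algebraMap k K))
  haveI : IsFinite sL := (IsFinite.SpecMap_iff _).2 (RingHom.finite_algebraMap.2 hLfin)
  haveI : Flat sL := FibreDeg.Basic.flat_of_field sL
  haveI : Surjective sL := ⟨fun t => ⟨IsLocalRing.closedPoint L, Subsingleton.elim _ _⟩⟩
  let S := pullback sL sK
  let a : S ⟶ Spec (CommRingCat.of L) := pullback.fst sL sK
  let h : S ⟶ Spec (CommRingCat.of K) := pullback.snd sL sK
  haveI : IsFinite h := MorphismProperty.pullback_snd sL sK ‹_›
  haveI : Flat h := FibreDeg.Basic.flat_of_field h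
  haveI : LocallyOfFinitePresentation h := LocallyOfFinitePresentation.iff_locallyOfFiniteType.2 inferInstance
  haveI : Surjective h := MorphismProperty.pullback_snd sL sK ‹_›
  haveI := discreteTopology_of_finite h
  -- the product
  let pY : pullback (BrSev.bcTo f K) h ⟶ BrSev.bc f K := pullback.fst _ _
  let bY : pullback (BrSev.bcTo f K) h ⟶ S := pullback.snd _ _
  have sqY : IsPullback pY bY (BrSev.bcTo f K) h := IsPullback.of_hasPullback _ _
  have hcond : (pY ≫ BrSev.proj f K) ≫ f = (bY ≫ a) ≫ sL := by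
    simp only [Category.assoc]
    rw [show a ≫ sL = h ≫ sK from pullback.condition, show BrSev.proj f K ≫ f = BrSev.bcTo f K ≫ sK from
      pullback.condition, ← Category.assoc, sqY.w, Category.assoc]
  let ρ : pullback (BrSev.bcTo f K) h ⟶ BrSev.bc f L := pullback.lift (pY ≫ BrSev.proj f K) (bY ≫ a) hcond
  have hρ1 : ρ ≫ BrSev.proj f L = pY ≫ BrSev.proj f K := pullback.lift_fst _ _ _
  have hρ2 : ρ ≫ BrSev.bcTo f L = bY ≫ a := pullback.lift_snd _ _ _
  have sqK : IsPullback (BrSev.proj f K) (BrSev.bcTo f K) f sK := IsPullback.of_hasPullback _ _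
  have sqL : IsPullback (BrSev.proj f L) (BrSev.bcTo f L) f sL := IsPullback.of_hasPullback _ _
  have sqS : IsPullback a h sL sK := IsPullback.of_hasPullback _ _
  have sq1 : IsPullback (ρ ≫ BrSev.proj f L) bY f (a ≫ sL) := by
    rw [hρ1, sqS.w]
    exact sqY.paste_horiz sqK
  have sq2 : IsPullback ρ bY (BrSev.bcTo f L) a := IsPullback.of_right sq1 hρ2 sqL
  have sq3 : IsPullback ρ (pY ≫ BrSev.bcTo f K) (BrSev.proj f L ≫ f) sK := by
    rw [sqY.w, sqL.w]
    exact sq2.paste_vert sqS
  have sq : IsPullback ρ pY (BrSev.proj f L) (BrSev.proj f K) := IsPullback.of_bot sq3 hρ1 sqK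
  -- properties
  haveI : IsFinite (BrSev.proj f L) := MorphismProperty.pullback_fst f sL ‹_›
  haveI : Flat (BrSev.proj f L) := MorphismProperty.pullback_fst f sL ‹_›
  haveI : LocallyOfFinitePresentation sL := LocallyOfFinitePresentation.iff_locallyOfFiniteType.2 inferInstance
  haveI : LocallyOfFinitePresentation (BrSev.proj f L) := MorphismProperty.pullback_fst f sL ‹_›
  haveI : Flat sK := FibreDeg.Basic.flat_of_field sK
  haveI : Flat (BrSev.proj f K) := MorphismProperty.pullback_fst f sK ‹_›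
  haveI : Flat (BrSev.bcTo f K) := FibreDeg.Basic.flat_of_field _
  haveI : IsFinite pY := MorphismProperty.pullback_fst (BrSev.bcTo f K) h ‹_›
  haveI : M.IsQuasicoherent := TensorMod.QCohInv.isQCoh_of_isInvertible hM
  haveI : (e.twist j).IsQuasicoherent := TensorMod.QCohInv.isQCoh_of_isInvertible hN
  -- the fibrewise comparison
  let u : CohB1.ProjSpaceOver n (Spec (CommRingCat.of K)) ≅ BrSev.bc f K :=
    ProjSpace.BaseChange.overSpecIso n K ≪≫ e.iso.symm
  have hu : u.hom ≫ BrSev.bcTo f K = CohB1.ProjSpaceOver.toBase n _ := by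
    show (_ ≫ _) ≫ _ = _
    rw [Category.assoc, Iso.symm_hom, ← e.comm, Iso.inv_hom_id_assoc,
      ProjSpace.BaseChange.overSpecIso_hom_toSpec]
  have sqP : IsPullback (ProjSpace.BaseChange.overMap n h ≫ u.hom) (CohB1.ProjSpaceOver.toBase n S)
      (BrSev.bcTo f K) h := by
    refine (ProjSpace.BaseChange.isPullback_overMap n h).of_iso (Iso.refl _) u (Iso.refl _) (Iso.refl _)
      ?_ ?_ ?_ ?_
    · exact (Category.id_comp _).symm
    · exact (Category.comp_id _).trans (Category.id_comp _).symm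
    · exact (Category.comp_id _).trans hu.symm
    · exact (Category.comp_id _).trans (Category.id_comp _).symm
  let θ : CohB1.ProjSpaceOver n S ≅ pullback (BrSev.bcTo f K) h := sqP.isoPullback
  have hθ1 : θ.hom ≫ pY = ProjSpace.BaseChange.overMap n h ≫ u.hom := sqP.isoPullback_hom_fst
  have hθ2 : θ.hom ≫ bY = CohB1.ProjSpaceOver.toBase n S := sqP.isoPullback_hom_snd
  have hpt1 : pt n (𝟙 (Spec (CommRingCat.of K))) = (ProjSpace.BaseChange.overSpecIso n K).inv := by
    rw [pt, PicProjOver.overMap_id, Category.comp_id]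
  have hcomp : ∀ {A B C : Scheme.{u}} (x : A ⟶ B) (y : B ⟶ C) (P : C.Modules),
      Nonempty ((Scheme.Modules.pullback x).obj ((Scheme.Modules.pullback y).obj P) ≅
        (Scheme.Modules.pullback (x ≫ y)).obj P) := fun x y P => ⟨(Scheme.Modules.pullbackComp x y).app P⟩
  let N₁ : (CohB1.ProjSpaceOver n S).Modules :=
    (Scheme.Modules.pullback θ.hom).obj ((Scheme.Modules.pullback ρ).obj M)
  obtain ⟨i1⟩ : Nonempty (N₁ ≅ Twist.twistOver n S j) := by
    refine nonempty_iso_twistOver N₁ (PicLoc.isInvertible_pullback _ (PicLoc.isInvertible_pullback _ hM)) j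
      fun s => ?_
    have hs : IsClosed ({s} : Set S) := isClosed_discrete _
    let g : Spec (CommRingCat.of K) ⟶ S := pointOfClosedPoint h s hs
    have hgh : g ≫ h = 𝟙 _ := pointOfClosedPoint_comp h s hs
    refine ⟨K, inferInstance, g, fun z => pointOfClosedPoint_apply h s hs z, ?_⟩
    let γ : CohB1.ProjSpace n K ⟶ pullback (BrSev.bcTo f K) h := pt n g ≫ θ.hom
    have hγ1 : γ ≫ pY = e.iso.inv := by
      show (pt n g ≫ θ.hom) ≫ pY = _
      rw [Category.assoc, hθ1, pt, Category.assoc, ← Category.assoc (ProjSpace.BaseChange.overMap n g),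
        ← PicProjOver.overMap_comp, hgh, PicProjOver.overMap_id, Category.id_comp]
      show _ ≫ _ ≫ e.iso.symm.hom = _
      rw [Iso.inv_hom_id_assoc]
      rfl
    have hγ2 : γ ≫ bY = CohB1.ProjSpace.toSpec n K ≫ g := by
      show (pt n g ≫ θ.hom) ≫ bY = _
      rw [Category.assoc, hθ2, (isPullback_pt n g).w]
    -- the embedding
    let φ : CommRingCat.of L ⟶ CommRingCat.of K := Spec.preimage (g ≫ a)
    have hφ : Spec.map φ = g ≫ a := Spec.map_preimage _
    have hφk : CommRingCat.ofHom (algebraMap k L) ≫ φ = CommRingCat.ofHom (algebraMap k K) := by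
      refine Spec.map_injective ?_
      rw [Spec.map_comp, hφ, Category.assoc, sqS.w, ← Category.assoc, hgh, Category.id_comp]
    let σ : L →ₐ[k] K := { φ.hom with commutes' := fun r => ConcreteCategory.congr_hom hφk r }
    let τ : K →ₐ[k] K := σ.liftNormal K
    have hτ : ∀ x : L, τ (algebraMap L K x) = σ x := fun x => AlgHom.liftNormal_commutes σ K x
    have hτb : Function.Bijective τ := Algebra.IsAlgebraic.algHom_bijective τ
    let τS : Spec (CommRingCat.of K) ⟶ Spec (CommRingCat.of K) := Spec.map (CommRingCat.ofHom τ.toRingHom)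
    haveI : IsIso (CommRingCat.ofHom τ.toRingHom) := (ConcreteCategory.isIso_iff_bijective _).2 hτb
    have hτS : τS ≫ sK = sK := by
      show Spec.map _ ≫ Spec.map _ = Spec.map _
      rw [← Spec.map_comp]
      exact congrArg Spec.map (CommRingCat.hom_ext (RingHom.ext fun r => τ.commutes r))
    let τX : BrSev.bc f K ⟶ BrSev.bc f K :=
      pullback.map _ _ _ _ (𝟙 X) τS (𝟙 _) (by simp) (by rw [Category.comp_id]; exact hτS.symm)
    haveI : IsIso τS := inferInstanceAs (IsIso (Spec.map (CommRingCat.ofHom τ.toRingHom)))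
    haveI : IsIso τX := inferInstance
    let v : CohB1.ProjSpace n K ⟶ BrSev.bc f K := e.iso.inv ≫ τX
    have hv : v ≫ cL = γ ≫ ρ := by
      apply pullback.hom_ext
      · show (v ≫ cL) ≫ BrSev.proj f L = (γ ≫ ρ) ≫ BrSev.proj f L
        rw [Category.assoc, hcL1, Category.assoc γ, hρ1, reassoc_of% hγ1]
        show (e.iso.inv ≫ τX) ≫ _ = _
        rw [Category.assoc]
        exact congrArg (e.iso.inv ≫ ·) ((pullback.lift_fst _ _ _).trans (Category.comp_id _))
      · show (v ≫ cL) ≫ BrSev.bcTo f L = (γ ≫ ρ) ≫ BrSev.bcTo f L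
        rw [Category.assoc, hcL2, Category.assoc γ, hρ2, reassoc_of% hγ2]
        show (e.iso.inv ≫ τX) ≫ _ = _
        have h5 : τX ≫ BrSev.bcTo f K = BrSev.bcTo f K ≫ τS := pullback.lift_snd _ _ _
        have h6 : τS ≫ Spec.map (CommRingCat.ofHom (algebraMap L K)) = g ≫ a := by
          show Spec.map _ ≫ _ = _
          rw [← Spec.map_comp, ← hφ]
          exact congrArg Spec.map (CommRingCat.hom_ext (RingHom.ext fun x => hτ x))
        rw [Category.assoc, reassoc_of% h5, h6, ← e.comm]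
        simp only [Category.assoc, Iso.inv_hom_id_assoc]
    haveI : IsIso (v ≫ e.iso.hom) := inferInstance
    obtain ⟨c1⟩ := hcomp θ.hom ρ M
    obtain ⟨c2⟩ := hcomp (pt n g) (θ.hom ≫ ρ) M
    obtain ⟨c3⟩ := hcomp v cL M
    obtain ⟨c4⟩ := hcomp v e.iso.hom (Twist.twistProjSpace n K j)
    obtain ⟨au⟩ := nonempty_pullback_auto (v ≫ e.iso.hom) j
    exact ⟨(Scheme.Modules.pullback (pt n g)).mapIso c1 ≪≫ c2 ≪≫
      (Scheme.Modules.pullbackCongr ((Category.assoc _ _ _).symm.trans hv.symm)).app M ≪≫ c3.symm ≪≫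
      (Scheme.Modules.pullback v).mapIso β ≪≫ c4 ≪≫ au⟩
  -- descend to the product
  obtain ⟨i2⟩ : Nonempty ((Scheme.Modules.pullback ρ).obj M ≅ (Scheme.Modules.pullback pY).obj (e.twist j)) := by
    obtain ⟨t1⟩ := pullback_overMap n h j
    obtain ⟨t2⟩ := pullback_pt n (𝟙 (Spec (CommRingCat.of K))) j
    obtain ⟨c1⟩ := hcomp u.hom e.iso.hom (Twist.twistProjSpace n K j)
    obtain ⟨c2⟩ := hcomp (ProjSpace.BaseChange.overSpecIso n K).hom (pt n (𝟙 _))
      (Twist.twistOver n (Spec (CommRingCat.of K)) j)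
    have hid : (ProjSpace.BaseChange.overSpecIso n K).hom ≫ pt n (𝟙 _) = 𝟙 _ := by
      rw [hpt1, Iso.hom_inv_id]
    have hue : u.hom ≫ e.iso.hom = (ProjSpace.BaseChange.overSpecIso n K).hom := by
      show (_ ≫ _) ≫ _ = _
      rw [Category.assoc, Iso.symm_hom, Iso.inv_hom_id, Category.comp_id]
    let eu : (Scheme.Modules.pullback u.hom).obj (e.twist j) ≅ Twist.twistOver n (Spec (CommRingCat.of K)) j :=
      c1 ≪≫ (Scheme.Modules.pullbackCongr hue).app _ ≪≫ (Scheme.Modules.pullback _).mapIso t2.symm ≪≫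
        c2 ≪≫ (Scheme.Modules.pullbackCongr hid).app _ ≪≫ (Scheme.Modules.pullbackId _).app _
    obtain ⟨c3⟩ := hcomp (ProjSpace.BaseChange.overMap n h) u.hom (e.twist j)
    obtain ⟨c4⟩ := hcomp θ.hom pY (e.twist j)
    let i3 : (Scheme.Modules.pullback θ.hom).obj ((Scheme.Modules.pullback ρ).obj M) ≅
        (Scheme.Modules.pullback θ.hom).obj ((Scheme.Modules.pullback pY).obj (e.twist j)) :=
      i1 ≪≫ t1.symm ≪≫ (Scheme.Modules.pullback _).mapIso eu.symm ≪≫ c3 ≪≫
        (Scheme.Modules.pullbackCongr hθ1.symm).app _ ≪≫ c4.symm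
    haveI := H21.ThickEquiv.isEquivalence_pullback θ.hom
    exact ⟨(Scheme.Modules.pullback θ.hom).preimageIso i3⟩
  -- the pushed structure module
  obtain ⟨d, hd, ⟨eO⟩⟩ : ∃ d, 0 < d ∧ Nonempty ((Scheme.Modules.pushforward h).obj (Coh.structureModule S) ≅
      FlatMod.freeMod (Spec (CommRingCat.of K)) d) := by
    obtain ⟨t⟩ : Nonempty (Spec (CommRingCat.of K) : Scheme.{u}) := ⟨IsLocalRing.closedPoint K⟩
    have hfl := ResDescend36.Proj.isFinLocFree_pushforward h
      (TensorMod.LocFree.of_rank (TensorMod.LocFree.of_isInvertible (PicLoc.isInvertible_structureModule S)))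
    obtain ⟨U, d, ht, hd⟩ := hfl t
    have hr : FlatMod.IsFinLocFreeOfRank d ((Scheme.Modules.pushforward h).obj (Coh.structureModule S)) :=
      fun x => ⟨U, by rw [Subsingleton.elim x t]; exact ht, hd⟩
    obtain ⟨i⟩ := (H97.EulerFinite.exists_iso_free hr).resolve_right (fun hE => hE.false t)
    refine ⟨d, Nat.pos_of_ne_zero fun hd0 => ?_, ⟨i⟩⟩
    subst hd0
    obtain ⟨s, -⟩ := h.surjective t
    have hz : IsZero ((Scheme.Modules.pushforward h).obj (Coh.structureModule S)) :=
      IsZero.of_iso ((IsZero.iff_id_eq_zero _).mpr (Sigma.hom_ext _ _ fun i => i.elim0)) i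
    haveI : Subsingleton Γ(S, ⊤) :=
      subsingleton_of_forall_eq (0 : Γ((Scheme.Modules.pushforward h).obj (Coh.structureModule S), ⊤))
        fun x => by
          have h0 := congrArg (fun q => Scheme.Modules.Hom.app q ⊤ x) ((IsZero.iff_id_eq_zero _).1 hz)
          exact h0
    haveI : IsAffine S := inferInstance
    haveI : IsEmpty (PrimeSpectrum Γ(S, ⊤)) := inferInstance
    haveI : IsEmpty ↥(Spec Γ(S, ⊤)) := inferInstanceAs (IsEmpty (PrimeSpectrum Γ(S, ⊤)))
    haveI : IsEmpty S := Function.isEmpty S.isoSpec.hom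
    exact isEmptyElim s
  refine ⟨(Scheme.Modules.pushforward (BrSev.proj f L)).obj M, d,
    ResDescend36.Proj.isFinLocFree_pushforward _ (TensorMod.LocFree.of_rank (TensorMod.LocFree.of_isInvertible hM)),
    hd, ?_⟩
  haveI := CohDelta.BC.Flat.isIso_bc0 (BrSev.proj f L) (BrSev.proj f K) ρ pY sq M
  haveI := ResDescend36.Proj.isIso_projMap pY (e.twist j)
  haveI : (Coh.structureModule S).IsQuasicoherent := TensorMod.QCohInv.isQCoh_structureModule S
  haveI := CohDelta.BC.Flat.isIso_bc0 h (BrSev.bcTo f K) bY pY sqY.flip (Coh.structureModule S)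
  let eP : H81.PushLocFree.push pY ≅ FlatMod.freeMod (BrSev.bc f K) d :=
    ((Scheme.Modules.pushforward pY).mapIso (PicLoc.pullbackStructureIso bY)).symm ≪≫
      (asIso (CohBC.bc0 h (BrSev.bcTo f K) pY bY sqY.flip.w (Coh.structureModule S))).symm ≪≫
      (Scheme.Modules.pullback _).mapIso eO ≪≫ TensorMod.LocFree.pullbackFreeModIso _ d
  obtain ⟨eT⟩ := nonempty_tensor_free (e.twist j) d
  exact ⟨asIso (CohBC.bc0 (BrSev.proj f L) (BrSev.proj f K) pY ρ sq.w M) ≪≫
    (Scheme.Modules.pushforward pY).mapIso i2 ≪≫ (asIso (ResDescend36.Proj.projMap pY (e.twist j))).symm ≪≫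
    tensorIso (Iso.refl _) eP ≪≫ eT⟩

end Groth.Agent.Lib.SBTwist
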